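import Mathlib

/-!
# Involutions outside a central four-group

`exists_invol`: a finite group `D` of order at least `256` with a central subgroup `Z` of order 4
and exponent 2 such that `D / Z` is elementary abelian contains an involution outside `Z`.
-/

set_option autoImplicit false

namespace Cfsg.Agent.H441.SpecialInvol

open Subgroup

/-- The commutator homomorphism `y ↦ [x, y]` into a central subgroup. -/
def commHom {D : Type*} [Group D] (Z : Subgroup D) (hZc : Z ≤ center D)
    (hcomm : ∀ x y : D, x * y * x⁻¹ * y⁻¹ ∈ Z) (x : D) : D →* Z :=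
  MonoidHom.mk' (fun y => ⟨x * y * x⁻¹ * y⁻¹, hcomm x y⟩) (by
    intro y y'
    apply Subtype.ext
    change x * (y * y') * x⁻¹ * (y * y')⁻¹ = (x * y * x⁻¹ * y⁻¹) * (x * y' * x⁻¹ * y'⁻¹)
    have h := mem_center_iff.1 (hZc (hcomm x y')) y
    have h2 : x * (y * y') * x⁻¹ * (y * y')⁻¹ =
        (x * y * x⁻¹ * y⁻¹) * (y * (x * y' * x⁻¹ * y'⁻¹)) * y⁻¹ := by group
    rw [h2, h]
    group)

theorem commHom_apply {D : Type*} [Group D] (Z : Subgroup D) (hZc : Z ≤ center D)
    (hcomm : ∀ x y : D, x * y * x⁻¹ * y⁻¹ ∈ Z) (x y : D) :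
    ((commHom Z hZc hcomm x y : Z) : D) = x * y * x⁻¹ * y⁻¹ := rfl

/-- A subgroup covered by `r` cosets of `Z` has order at most `r |Z|`. -/
theorem card_le_of_cover {D : Type*} [Group D] [Finite D] (Z K : Subgroup D) (r : ℕ)
    (g : Fin r → D) (h : ∀ y ∈ K, ∃ i, (g i)⁻¹ * y ∈ Z) : Nat.card K ≤ r * Nat.card Z := by
  classical
  choose i hi using fun y : K => h y y.2
  have hinj : Function.Injective
      (fun y : K => ((i y, ⟨(g (i y))⁻¹ * y, hi y⟩) : Fin r × Z)) := by
    intro y y' hy
    rw [Prod.mk.injEq, Subtype.mk.injEq] at hy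
    obtain ⟨h1, h2⟩ := hy
    rw [h1] at h2
    exact Subtype.ext (mul_left_cancel h2)
  have := Nat.card_le_card_of_injective _ hinj
  rwa [Nat.card_prod, Nat.card_fin] at this

theorem card_le_ker_mul {D M : Type*} [Group D] [Finite D] [Group M] [Finite M] (f : D →* M) :
    Nat.card D ≤ Nat.card f.ker * Nat.card M := by
  rw [← Subgroup.card_mul_index f.ker, Subgroup.index_ker]
  exact Nat.mul_le_mul_left _ (Subgroup.card_le_card_group f.range)

theorem exists_invol {D : Type*} [Group D] [Finite D] (Z : Subgroup D) (hZc : Z ≤ center D)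
    (hZ4 : Nat.card Z = 4) (hZ2 : ∀ z ∈ Z, z * z = 1) (hsq : ∀ x : D, x * x ∈ Z)
    (hcomm : ∀ x y : D, x * y * x⁻¹ * y⁻¹ ∈ Z) (hcard : 256 ≤ Nat.card D) :
    ∃ x, x ∉ Z ∧ x * x = 1 := by
  classical
  by_contra hno
  push Not at hno
  have hc : ∀ z ∈ Z, ∀ y : D, z * y = y * z := fun z hz y => (mem_center_iff.1 (hZc hz) y).symm
  -- first element
  obtain ⟨x, hx⟩ : ∃ x, x ∉ Z := by
    by_contra h
    push Not at h
    have : Z = ⊤ := by rw [eq_top_iff]; exact fun x _ => h x
    rw [this, Subgroup.card_top] at hZ4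
    omega
  set w := x * x with hw
  have hwZ : w ∈ Z := hsq x
  have hw1 : w ≠ 1 := hno x hx
  have hww : w * w = 1 := hZ2 w hwZ
  -- second element
  have hK1 : 64 ≤ Nat.card (commHom Z hZc hcomm x).ker := by
    have := card_le_ker_mul (commHom Z hZc hcomm x)
    rw [hZ4] at this
    omega
  obtain ⟨y, hyK, hyZ, hxyZ⟩ : ∃ y, y ∈ (commHom Z hZc hcomm x).ker ∧ y ∉ Z ∧ x⁻¹ * y ∉ Z := by
    by_contra h
    push Not at h
    have := card_le_of_cover Z (commHom Z hZc hcomm x).ker 2 ![1, x] (by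
      intro y hy
      by_cases hyZ : y ∈ Z
      · exact ⟨0, by simpa using hyZ⟩
      · exact ⟨1, by simpa using h y hy hyZ⟩)
    rw [hZ4] at this
    omega
  have hxy : x * y = y * x := by
    have h1 := congrArg (Subtype.val : Z → D) (MonoidHom.mem_ker.1 hyK)
    rw [commHom_apply] at h1
    change x * y * x⁻¹ * y⁻¹ = 1 at h1
    rwa [mul_inv_eq_one, mul_inv_eq_iff_eq_mul] at h1
  have hxyZ' : x * y ∉ Z := by
    intro h
    apply hxyZ
    have h1 : x⁻¹ * y = (x * x)⁻¹ * (x * y) := by group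
    rw [h1]
    exact mul_mem (inv_mem hwZ) h
  -- the subgroup `⟨w⟩`
  let W : Subgroup Z := zpowers ⟨w, hwZ⟩
  have hWmem : ∀ c : Z, c ∈ W ↔ (c : D) = 1 ∨ (c : D) = w := by
    intro c
    constructor
    · rintro ⟨j, hj⟩
      have hj' : w ^ j = (c : D) := congrArg Subtype.val hj
      rcases Int.even_or_odd' j with ⟨i, hi | hi⟩
      · left
        rw [← hj', hi, zpow_mul]
        have : w ^ (2 : ℤ) = 1 := by rw [zpow_two]; exact hww
        rw [this, one_zpow]
      · right
        rw [← hj', hi, zpow_add, zpow_mul]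
        have : w ^ (2 : ℤ) = 1 := by rw [zpow_two]; exact hww
        rw [this, one_zpow, one_mul, zpow_one]
    · rintro (h | h)
      · have : c = 1 := Subtype.ext h
        rw [this]; exact one_mem _
      · have : c = ⟨w, hwZ⟩ := Subtype.ext h
        rw [this]; exact mem_zpowers _
  have hWcard : Nat.card W = 2 := by
    change Nat.card (zpowers (⟨w, hwZ⟩ : Z)) = 2
    rw [Nat.card_zpowers]
    apply orderOf_eq_prime
    · rw [pow_two]; exact Subtype.ext hww
    · intro h; exact hw1 (congrArg Subtype.val h)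
  have hWindex : W.index = 2 := by
    have := Subgroup.card_mul_index W
    rw [hWcard, hZ4] at this
    omega
  haveI hWn : W.Normal := Subgroup.normal_of_index_eq_two hWindex
  let f : D →* Z × (Z ⧸ W) :=
    (commHom Z hZc hcomm x).prod ((QuotientGroup.mk' W).comp (commHom Z hZc hcomm y))
  have hfK : 32 ≤ Nat.card f.ker := by
    have := card_le_ker_mul f
    rw [Nat.card_prod, hZ4, ← Subgroup.index_eq_card, hWindex] at this
    omega
  obtain ⟨u, huK, hu0, hu1, hu2, hu3⟩ : ∃ u, u ∈ f.ker ∧ u ∉ Z ∧ x⁻¹ * u ∉ Z ∧ y⁻¹ * u ∉ Z ∧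
      (x * y)⁻¹ * u ∉ Z := by
    by_contra h
    push Not at h
    have := card_le_of_cover Z f.ker 4 ![1, x, y, x * y] (by
      intro u hu
      by_cases h0 : u ∈ Z
      · exact ⟨0, by simpa using h0⟩
      by_cases h1 : x⁻¹ * u ∈ Z
      · exact ⟨1, by simpa using h1⟩
      by_cases h2 : y⁻¹ * u ∈ Z
      · exact ⟨2, by simpa using h2⟩
      · exact ⟨3, by simpa using h u hu h0 h1 h2⟩)
    rw [hZ4] at this
    omega
  have huK' := MonoidHom.mem_ker.1 huK
  have hxu : x * u = u * x := by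
    have h1 : (commHom Z hZc hcomm x u) = 1 := congrArg Prod.fst huK'
    have h2 := congrArg (Subtype.val : Z → D) h1
    rw [commHom_apply] at h2
    change x * u * x⁻¹ * u⁻¹ = 1 at h2
    rwa [mul_inv_eq_one, mul_inv_eq_iff_eq_mul] at h2
  have hyu : commHom Z hZc hcomm y u ∈ W := by
    have h1 : (QuotientGroup.mk' W) (commHom Z hZc hcomm y u) = 1 := congrArg Prod.snd huK'
    exact (QuotientGroup.eq_one_iff _).1 h1
  -- squares outside `W`
  have hsqW : ∀ v : D, v ∉ Z → x * v ∉ Z → x * v = v * x → (⟨v * v, hsq v⟩ : Z) ∉ W := by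
    intro v hv hxv hcv h
    rcases (hWmem _).1 h with h1 | h1
    · exact hno v hv h1
    · apply hno (x * v) hxv
      have h1' : v * v = w := h1
      calc x * v * (x * v) = x * (v * x) * v := by group
        _ = x * (x * v) * v := by rw [hcv]
        _ = (x * x) * (v * v) := by group
        _ = w * w := by rw [h1']
        _ = 1 := hww
  have hyW := hsqW y hyZ hxyZ' hxy
  have hxuZ : x * u ∉ Z := by
    intro h
    apply hu1
    have h1 : x⁻¹ * u = (x * x)⁻¹ * (x * u) := by group
    rw [h1]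
    exact mul_mem (inv_mem hwZ) h
  have huW := hsqW u hu0 hxuZ hxu
  have hprod : (⟨y * y, hsq y⟩ : Z) * ⟨u * u, hsq u⟩ ∈ W :=
    (Subgroup.mul_mem_iff_of_index_two hWindex).2 (iff_of_false hyW huW)
  have htot : (commHom Z hZc hcomm y u) * ((⟨y * y, hsq y⟩ : Z) * ⟨u * u, hsq u⟩) ∈ W :=
    mul_mem hyu hprod
  -- `(y u)² = [y, u] y² u²`
  set c := y * u * y⁻¹ * u⁻¹ with hcdef
  have hcZ : c ∈ Z := hcomm y u
  have hcc : c * c = 1 := hZ2 c hcZ
  have hyuc : y * u = c * (u * y) := by rw [hcdef]; group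
  have huy : u * y = c * (y * u) := by
    rw [hyuc, ← mul_assoc, hcc, one_mul]
  have hsquare : (y * u) * (y * u) = c * ((y * y) * (u * u)) := by
    calc (y * u) * (y * u) = y * (u * y) * u := by group
      _ = y * (c * (y * u)) * u := by rw [huy]
      _ = (y * c) * (y * u * u) := by group
      _ = (c * y) * (y * u * u) := by rw [hc c hcZ y]
      _ = c * ((y * y) * (u * u)) := by group
  have hmem := (hWmem _).1 htot
  have hmem' : c * ((y * y) * (u * u)) = 1 ∨ c * ((y * y) * (u * u)) = w := hmem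
  rw [← hsquare] at hmem'
  have hyuZ : y * u ∉ Z := by
    intro h
    apply hu2
    have h1 : y⁻¹ * u = (y * y)⁻¹ * (y * u) := by group
    rw [h1]
    exact mul_mem (inv_mem (hsq y)) h
  rcases hmem' with h | h
  · exact hno _ hyuZ h
  · have hxyuZ : x * (y * u) ∉ Z := by
      intro h'
      apply hu3
      have h1 : (x * y)⁻¹ * u = ((x * y) * (x * y))⁻¹ * (x * (y * u)) := by group
      rw [h1]
      exact mul_mem (inv_mem (hsq _)) h'
    apply hno _ hxyuZ
    have hcx : x * (y * u) = (y * u) * x := by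
      calc x * (y * u) = (x * y) * u := by group
        _ = (y * x) * u := by rw [hxy]
        _ = y * (x * u) := by group
        _ = y * (u * x) := by rw [hxu]
        _ = (y * u) * x := by group
    calc x * (y * u) * (x * (y * u)) = x * ((y * u) * x) * (y * u) := by group
      _ = x * (x * (y * u)) * (y * u) := by rw [hcx]
      _ = (x * x) * ((y * u) * (y * u)) := by group
      _ = w * w := by rw [h]
      _ = 1 := hww

end Cfsg.Agent.H441.SpecialInvol
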