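import Cfsg.Agent.OrdDiv.Main

/-!
# Known simple groups whose order is divisible by 27 but not by 81 (helper441)

`main` : such a group is `PSL₂(q)`, `PSL₃(q)` (`q ≡ 2 mod 3` or `q = 3`), `PSU₃(q)` (`q ≡ 1 mod 3` or `q = 3`),
`G₂(q)` (`3 ∤ q`, `9 ∤ q² - 1`), `²F₄(q)` (`9 ∤ q + 1`), the Tits group, `M₁₂`, `M₂₄`, `J₂`, `J₄`, `He` or `Ru`.
-/

set_option autoImplicit false

namespace Cfsg.Agent.H441.ThreePart

open Cfsg Cfsg.Agent.OrdDiv

universe u

/-! ### arithmetic -/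

theorem dvd_of_coprime {N d c M : ℕ} (hN : N.Coprime d) (hc : d * c = M) (h : N ∣ M) : N ∣ c :=
  hN.dvd_of_dvd_mul_left (hc ▸ h)

theorem mod_cases {q : ℕ} (h : ¬ 3 ∣ q) : q % 3 = 1 ∨ q % 3 = 2 := by omega

/-- `3 ∣ q^(2k) - 1` -/
theorem three_even {q : ℕ} (h : ¬ 3 ∣ q) (k : ℕ) : 3 ∣ q ^ (2 * k) - 1 := by
  apply (Nat.modEq_iff_dvd' (Nat.one_le_pow _ _ (Nat.pos_of_ne_zero (by rintro rfl; simp at h)))).1
  have h1 : q ^ 2 % 3 = 1 := by
    rcases mod_cases h with h | h <;> rw [Nat.pow_mod, h]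
  have h2 : q ^ 2 ≡ 1 [MOD 3] := h1
  have h3 := h2.pow k
  rw [one_pow, ← pow_mul] at h3
  exact h3.symm

theorem nine_six {q : ℕ} (h : ¬ 3 ∣ q) (k : ℕ) : 9 ∣ q ^ (6 * k) - 1 := by
  apply (Nat.modEq_iff_dvd' (Nat.one_le_pow _ _ (Nat.pos_of_ne_zero (by rintro rfl; simp at h)))).1
  have h1 : q ^ 6 % 9 = 1 := by
    have : q % 9 = 1 ∨ q % 9 = 2 ∨ q % 9 = 4 ∨ q % 9 = 5 ∨ q % 9 = 7 ∨ q % 9 = 8 := by omega
    rcases this with h | h | h | h | h | h <;> rw [Nat.pow_mod, h]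
  have h2 : q ^ 6 ≡ 1 [MOD 9] := h1
  have h3 := h2.pow k
  rw [one_pow, ← pow_mul] at h3
  exact h3.symm

theorem pos_of {q : ℕ} (h : ¬ 3 ∣ q) : 1 ≤ q := Nat.pos_of_ne_zero (by rintro rfl; simp at h)

theorem three_one {q : ℕ} (h : q % 3 = 1) (k : ℕ) : 3 ∣ q ^ k - 1 := by
  apply (Nat.modEq_iff_dvd' (Nat.one_le_pow _ _ (by omega))).1
  have h2 : q ≡ 1 [MOD 3] := h
  have h3 := h2.pow k
  rw [one_pow] at h3
  exact h3.symm

theorem nine_cube {q : ℕ} (h : q % 3 = 1) (k : ℕ) : 9 ∣ q ^ (3 * k) - 1 := by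
  apply (Nat.modEq_iff_dvd' (Nat.one_le_pow _ _ (by omega))).1
  have h1 : q ^ 3 % 9 = 1 := by
    have : q % 9 = 1 ∨ q % 9 = 4 ∨ q % 9 = 7 := by omega
    rcases this with h | h | h <;> rw [Nat.pow_mod, h]
  have h2 : q ^ 3 ≡ 1 [MOD 9] := h1
  have h3 := h2.pow k
  rw [one_pow, ← pow_mul] at h3
  exact h3.symm

/-- a number whose square is divisible by 27 -/
theorem sq_dvd {m u : ℕ} (hu : ¬ 3 ∣ u) (h : 27 ∣ m ^ 2 * u) : 81 ∣ m ^ 2 * u := by
  have h1 : Nat.Coprime 27 u := by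
    have : Nat.Coprime 3 u := (Nat.prime_three.coprime_iff_not_dvd).2 hu
    exact Nat.Coprime.pow_left 3 this
  have h2 : 27 ∣ m ^ 2 := h1.dvd_of_dvd_mul_right h
  have h3 : 3 ∣ m := Nat.prime_three.dvd_of_dvd_pow ((show 3 ∣ 27 by norm_num).trans h2)
  obtain ⟨k, rfl⟩ := h3
  have h4 : 3 ∣ k ^ 2 := by
    have h5 : (3 * k) ^ 2 = 9 * k ^ 2 := by ring
    rw [h5] at h2
    omega
  have h6 : 3 ∣ k := Nat.prime_three.dvd_of_dvd_pow h4
  obtain ⟨j, rfl⟩ := h6
  exact Dvd.dvd.mul_right ⟨j ^ 2, by ring⟩ u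

theorem prB_dvd {q m : ℕ} (hm : 3 ≤ m) : (q ^ 2 - 1) * (q ^ 4 - 1) * (q ^ 6 - 1) ∣ prB q m := by
  unfold prB
  rw [prod_list]
  have h : ∏ i ∈ Finset.range 3, (q ^ (2 * (i + 1)) - 1) ∣ ∏ i ∈ Finset.range m, (q ^ (2 * (i + 1)) - 1) :=
    Finset.prod_dvd_prod_of_subset _ _ _ (Finset.range_mono hm)
  rw [Finset.prod_range_succ, Finset.prod_range_succ, Finset.prod_range_one] at h
  exact h

theorem dvd81 {q : ℕ} (h : ¬ 3 ∣ q) : 81 ∣ (q ^ 2 - 1) * (q ^ 4 - 1) * (q ^ 6 - 1) := by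
  have h1 := three_even h 1
  have h2 := three_even h 2
  have h3 := nine_six h 1
  exact Nat.mul_dvd_mul (Nat.mul_dvd_mul h1 h2) h3

theorem three_dvd_iff {q : ℕ} (hq : IsPrimePow q) (h : 3 ∣ q) : ∃ f, 1 ≤ f ∧ q = 3 ^ f := by
  obtain ⟨p, k, hp, hk, rfl⟩ := hq
  have h1 : 3 ∣ p := Nat.prime_three.dvd_of_dvd_pow h
  have h2 : 3 = p := (Nat.prime_dvd_prime_iff_eq Nat.prime_three hp.nat_prime).1 h1
  subst h2
  exact ⟨k, hk, rfl⟩

theorem pow4_dvd {q n : ℕ} (h : 3 ∣ q) (hn : 4 ≤ n) : 81 ∣ q ^ n :=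
  (pow_dvd_pow_of_dvd h 4).trans (pow_dvd_pow q hn)

/-- `∏_{i<n} (q^n - q^i) = q^(n(n-1)/2) ∏_{i<n} (q^(i+1) - 1)` -/
theorem glN_eq (n q : ℕ) : glN n q = q ^ (n * (n - 1) / 2) * ∏ i ∈ Finset.range n, (q ^ (i + 1) - 1) := by
  unfold glN
  rw [prod_list, ← Finset.prod_range_reflect (fun i => q ^ (i + 1) - 1), ← Finset.sum_range_id,
    ← Finset.prod_pow_eq_pow_sum, ← Finset.prod_mul_distrib]
  apply Finset.prod_congr rfl
  intro i hi
  rw [Finset.mem_range] at hi
  obtain ⟨m, rfl⟩ : ∃ m, n = i + m + 1 := ⟨n - i - 1, by omega⟩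
  rw [show i + m + 1 - 1 - i + 1 = m + 1 by omega, Nat.mul_sub, ← pow_add, mul_one]
  congr 2

theorem prU_eq (q n : ℕ) : prU q n = ∏ i ∈ Finset.range n, (if i % 2 = 0 then q ^ (i + 1) + 1 else q ^ (i + 1) - 1) := by
  unfold prU
  rw [prod_list]
  apply Finset.prod_congr rfl
  intro i _
  by_cases h : i % 2 = 0
  · rw [if_pos h, if_pos (by rw [Nat.beq_eq]; exact h)]
  · rw [if_neg h, if_neg (by rw [Nat.beq_eq]; exact h)]

/-! ### the families -/

/-- `PSL_n(q)` -/
theorem psl {n q c : ℕ} (hn : 2 ≤ n) (hq : IsPrimePow q) (hc : Nat.gcd n (q - 1) * (q - 1) * c = glN n q)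
    (h27 : 27 ∣ c) (h81 : ¬ 81 ∣ c) : n = 2 ∨ n = 3 ∧ (q % 3 = 2 ∨ q = 3) := by
  have hq1 : 1 < q := hq.one_lt
  rw [glN_eq] at hc
  -- cancel `q - 1`
  have hc2 : Nat.gcd n (q - 1) * c = q ^ (n * (n - 1) / 2) * ∏ i ∈ Finset.range (n - 1), (q ^ (i + 2) - 1) := by
    obtain ⟨m, rfl⟩ : ∃ m, n = m + 1 := ⟨n - 1, by omega⟩
    rw [Finset.prod_range_succ'] at hc
    rw [zero_add, pow_one] at hc
    have h1 : (q - 1) * (Nat.gcd (m + 1) (q - 1) * c) =
        (q - 1) * (q ^ ((m + 1) * (m + 1 - 1) / 2) * ∏ i ∈ Finset.range m, (q ^ (i + 1 + 1) - 1)) := by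
      linarith
    exact Nat.eq_of_mul_eq_mul_left (by omega) h1
  by_contra hcon
  push Not at hcon
  obtain ⟨hn2, hn3⟩ := hcon
  apply h81
  by_cases h3 : 3 ∣ q
  · -- characteristic 3
    have hcop : Nat.Coprime 81 (Nat.gcd n (q - 1)) := by
      have h1 : ¬ 3 ∣ q - 1 := by omega
      have h2 : Nat.Coprime 3 (q - 1) := (Nat.prime_three.coprime_iff_not_dvd).2 h1
      exact Nat.Coprime.pow_left 4 (Nat.Coprime.coprime_dvd_right (Nat.gcd_dvd_right _ _) h2)
    apply dvd_of_coprime hcop hc2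
    apply Dvd.dvd.mul_right
    rcases Nat.lt_or_ge n 4 with h4 | h4
    · have hn3' : n = 3 := by omega
      subst hn3'
      have h5 := hn3 rfl
      obtain ⟨f, hf, rfl⟩ := three_dvd_iff hq h3
      have hf2 : 2 ≤ f := by
        by_contra hf2
        have : f = 1 := by omega
        subst this
        exact h5.2 (by norm_num)
      change 3 ^ 4 ∣ (3 ^ f) ^ 3
      rw [← pow_mul]
      exact pow_dvd_pow 3 (by omega)
    · apply pow4_dvd h3
      have h5 : 4 * 3 ≤ n * (n - 1) := Nat.mul_le_mul h4 (by omega)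
      omega
  · rcases mod_cases h3 with h1 | h2
    · -- `q ≡ 1`
      have hn3' : n ≠ 3 ∨ n = 3 := by omega
      rcases Nat.lt_or_ge n 4 with h4 | h4
      · -- `n = 3` : even valuation
        have hn3' : n = 3 := by omega
        subst hn3'
        rw [show (3 : ℕ) - 1 = 2 by rfl, Finset.prod_range_succ, Finset.prod_range_one] at hc2
        have hg : Nat.gcd 3 (q - 1) = 3 := Nat.gcd_eq_left (by omega)
        rw [hg] at hc2
        obtain ⟨a, ha⟩ : ∃ a, q = 3 * a + 1 := ⟨q / 3, by omega⟩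
        have e1 : q ^ 2 - 1 = (q - 1) * (q + 1) := by
          have : q ^ 2 - 1 ^ 2 = (q + 1) * (q - 1) := Nat.sq_sub_sq q 1
          rw [one_pow] at this
          rw [this, mul_comm]
        have e2 : q ^ 3 - 1 = (q - 1) * (q ^ 2 + q + 1) := by
          have h5 : q ^ 3 = (q - 1) * (q ^ 2 + q + 1) + 1 := by
            subst ha
            rw [Nat.add_sub_cancel]
            ring
          omega
        have e3 : q ^ 2 + q + 1 = 3 * (3 * a ^ 2 + 3 * a + 1) := by subst ha; ring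
        have h6 : c = (q - 1) ^ 2 * (q ^ 3 * (q + 1) * (3 * a ^ 2 + 3 * a + 1)) := by
          have h7 : 3 * c = 3 * ((q - 1) ^ 2 * (q ^ 3 * (q + 1) * (3 * a ^ 2 + 3 * a + 1))) := by
            rw [hc2]
            norm_num
            rw [e1, e2, e3]
            ring
          exact Nat.eq_of_mul_eq_mul_left (by norm_num) h7
        rw [h6] at h27 ⊢
        apply sq_dvd _ h27
        intro h8
        rcases (Nat.prime_three.dvd_mul).1 h8 with h9 | h9
        · rcases (Nat.prime_three.dvd_mul).1 h9 with h9 | h9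
          · exact h3 (Nat.prime_three.dvd_of_dvd_pow h9)
          · omega
        · omega
      · -- `n ≥ 4`
        rcases Nat.lt_or_ge n 5 with h5 | h5
        · have hn4 : n = 4 := by omega
          subst hn4
          rw [show (4 : ℕ) - 1 = 3 by rfl, Finset.prod_range_succ, Finset.prod_range_succ, Finset.prod_range_one] at hc2
          have hcop : Nat.Coprime 81 (Nat.gcd 4 (q - 1)) :=
            Nat.Coprime.coprime_dvd_right (Nat.gcd_dvd_left _ _) (by norm_num)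
          apply dvd_of_coprime hcop hc2
          apply Dvd.dvd.mul_left
          have a1 := three_one h1 2
          have a2 := nine_cube h1 1
          have a3 := three_one h1 4
          exact Nat.mul_dvd_mul (Nat.mul_dvd_mul a1 a2) a3
        · -- `gcd ∣ q² - 1`
          obtain ⟨m, rfl⟩ : ∃ m, n = m + 5 := ⟨n - 5, by omega⟩
          rw [show m + 5 - 1 = m + 4 by omega, Finset.prod_range_succ'] at hc2
          rw [zero_add] at hc2
          have hg : Nat.gcd (m + 5) (q - 1) ∣ q ^ 2 - 1 := by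
            refine (Nat.gcd_dvd_right _ _).trans ?_
            have : q ^ 2 - 1 ^ 2 = (q + 1) * (q - 1) := Nat.sq_sub_sq q 1
            rw [one_pow] at this
            rw [this]
            exact Dvd.intro_left _ rfl
          obtain ⟨w, hw⟩ := hg
          rw [hw] at hc2
          have hgp : 0 < Nat.gcd (m + 5) (q - 1) := Nat.gcd_pos_of_pos_left _ (by omega)
          have h6 : c = q ^ ((m + 5) * (m + 4) / 2) * w * ∏ i ∈ Finset.range (m + 3), (q ^ (i + 1 + 2) - 1) := by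
            apply Nat.eq_of_mul_eq_mul_left hgp
            rw [hc2]
            ring
          rw [h6]
          apply Dvd.dvd.mul_left
          have h7 : ∏ i ∈ Finset.range 3, (q ^ (i + 1 + 2) - 1) ∣ ∏ i ∈ Finset.range (m + 3), (q ^ (i + 1 + 2) - 1) :=
            Finset.prod_dvd_prod_of_subset _ _ _ (Finset.range_mono (by omega))
          rw [Finset.prod_range_succ, Finset.prod_range_succ, Finset.prod_range_one] at h7
          refine Dvd.dvd.trans ?_ h7
          have a1 := nine_cube h1 1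
          have a2 := three_one h1 4
          have a3 := three_one h1 5
          exact Nat.mul_dvd_mul (Nat.mul_dvd_mul a1 a2) a3
    · -- `q ≡ 2`
      have hcop : Nat.Coprime 81 (Nat.gcd n (q - 1)) := by
        have h1 : ¬ 3 ∣ q - 1 := by omega
        have h2 : Nat.Coprime 3 (q - 1) := (Nat.prime_three.coprime_iff_not_dvd).2 h1
        exact Nat.Coprime.pow_left 4 (Nat.Coprime.coprime_dvd_right (Nat.gcd_dvd_right _ _) h2)
      have h4 : 4 ≤ n := by
        by_contra h4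
        have : n = 3 := by omega
        exact (hn3 this).1 h2
      apply dvd_of_coprime hcop hc2
      rcases Nat.lt_or_ge n 6 with h6 | h6
      · have h27' : 27 ∣ q ^ (n * (n - 1) / 2) * ∏ i ∈ Finset.range (n - 1), (q ^ (i + 2) - 1) := by
          rw [← hc2]; exact Dvd.dvd.mul_left h27 _
        have e4 : q ^ 4 - 1 = (q ^ 2 - 1) * (q ^ 2 + 1) := by
          have : (q ^ 2) ^ 2 - 1 ^ 2 = (q ^ 2 + 1) * (q ^ 2 - 1) := Nat.sq_sub_sq (q ^ 2) 1
          rw [one_pow, ← pow_mul] at this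
          rw [this, mul_comm]
        have hodd : ∀ k, ¬ 3 ∣ q ^ (2 * k + 1) - 1 := by
          intro k hk
          have h5 := (Nat.modEq_iff_dvd' (Nat.one_le_pow _ _ (by omega))).2 hk
          have h6 : q ^ (2 * k + 1) % 3 = 2 := by
            have h7 : q ^ 2 ≡ 1 [MOD 3] := by
              change q ^ 2 % 3 = 1 % 3
              rw [Nat.pow_mod, h2]
            have h8 := (h7.pow k).mul_right q
            rw [one_pow, ← pow_mul, ← pow_succ, one_mul] at h8
            have h2' : q ≡ 2 [MOD 3] := h2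
            exact h8.trans h2'
          have h9 : 1 % 3 = q ^ (2 * k + 1) % 3 := h5
          omega
        have hq2 : ¬ 3 ∣ q ^ 2 + 1 := by
          intro h5
          have : (q ^ 2 + 1) % 3 = 2 := by
            rw [Nat.add_mod, Nat.pow_mod, h2]
          omega
        have hn45 : n = 4 ∨ n = 5 := by omega
        rcases hn45 with rfl | rfl
        · rw [show (4 : ℕ) - 1 = 3 by rfl, Finset.prod_range_succ, Finset.prod_range_succ, Finset.prod_range_one]
            at h27' ⊢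
          simp only [zero_add, Nat.reduceAdd] at h27' ⊢
          rw [e4] at h27' ⊢
          have e : q ^ (4 * 3 / 2) * ((q ^ 2 - 1) * (q ^ 3 - 1) * ((q ^ 2 - 1) * (q ^ 2 + 1))) =
              (q ^ 2 - 1) ^ 2 * (q ^ 6 * (q ^ 3 - 1) * (q ^ 2 + 1)) := by norm_num; ring
          rw [e] at h27' ⊢
          apply sq_dvd _ h27'
          intro h8
          rcases (Nat.prime_three.dvd_mul).1 h8 with h9 | h9
          · rcases (Nat.prime_three.dvd_mul).1 h9 with h9 | h9
            · exact h3 (Nat.prime_three.dvd_of_dvd_pow h9)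
            · exact hodd 1 h9
          · exact hq2 h9
        · rw [show (5 : ℕ) - 1 = 4 by rfl, Finset.prod_range_succ, Finset.prod_range_succ, Finset.prod_range_succ,
            Finset.prod_range_one] at h27' ⊢
          simp only [zero_add, Nat.reduceAdd] at h27' ⊢
          rw [e4] at h27' ⊢
          have e : q ^ (5 * 4 / 2) * ((q ^ 2 - 1) * (q ^ 3 - 1) * ((q ^ 2 - 1) * (q ^ 2 + 1)) * (q ^ 5 - 1)) =
              (q ^ 2 - 1) ^ 2 * (q ^ 10 * (q ^ 3 - 1) * (q ^ 2 + 1) * (q ^ 5 - 1)) := by norm_num; ring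
          rw [e] at h27' ⊢
          apply sq_dvd _ h27'
          intro h8
          rcases (Nat.prime_three.dvd_mul).1 h8 with h9 | h9
          · rcases (Nat.prime_three.dvd_mul).1 h9 with h9 | h9
            · rcases (Nat.prime_three.dvd_mul).1 h9 with h9 | h9
              · exact h3 (Nat.prime_three.dvd_of_dvd_pow h9)
              · exact hodd 1 h9
            · exact hq2 h9
          · exact hodd 2 h9
      · apply Dvd.dvd.mul_left
        have h7 : ∏ i ∈ Finset.range 5, (q ^ (i + 2) - 1) ∣ ∏ i ∈ Finset.range (n - 1), (q ^ (i + 2) - 1) :=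
          Finset.prod_dvd_prod_of_subset _ _ _ (Finset.range_mono (by omega))
        refine Dvd.dvd.trans ?_ h7
        rw [Finset.prod_range_succ, Finset.prod_range_succ, Finset.prod_range_succ, Finset.prod_range_succ,
          Finset.prod_range_one]
        simp only [zero_add, Nat.reduceAdd]
        refine (dvd81 h3).trans ⟨(q ^ 3 - 1) * (q ^ 5 - 1), by ring⟩

/-- `PSU_n(q)` -/
theorem psu {n q c : ℕ} (hn : 3 ≤ n) (hq : IsPrimePow q)
    (hc : Nat.gcd n (q + 1) * (q + 1) * c = q ^ (n * (n - 1) / 2) * prU q n)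
    (h27 : 27 ∣ c) (h81 : ¬ 81 ∣ c) : n = 3 ∧ (q % 3 = 1 ∨ q = 3) := by
  have hq1 : 1 < q := hq.one_lt
  rw [prU_eq] at hc
  -- cancel `q + 1`
  have hc2 : Nat.gcd n (q + 1) * c = q ^ (n * (n - 1) / 2) *
      ∏ i ∈ Finset.range (n - 1), (if (i + 1) % 2 = 0 then q ^ (i + 2) + 1 else q ^ (i + 2) - 1) := by
    obtain ⟨m, rfl⟩ : ∃ m, n = m + 1 := ⟨n - 1, by omega⟩
    rw [Finset.prod_range_succ'] at hc
    rw [zero_add, pow_one, if_pos (by norm_num)] at hc
    have h1 : (q + 1) * (Nat.gcd (m + 1) (q + 1) * c) =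
        (q + 1) * (q ^ ((m + 1) * (m + 1 - 1) / 2) *
          ∏ i ∈ Finset.range m, (if (i + 1) % 2 = 0 then q ^ (i + 1 + 1) + 1 else q ^ (i + 1 + 1) - 1)) := by
      linarith
    exact Nat.eq_of_mul_eq_mul_left (by omega) h1
  by_contra hcon
  push Not at hcon
  have hn3 := hcon
  apply h81
  by_cases h3 : 3 ∣ q
  · -- characteristic 3
    have hcop : Nat.Coprime 81 (Nat.gcd n (q + 1)) := by
      have h1 : ¬ 3 ∣ q + 1 := by omega
      have h2 : Nat.Coprime 3 (q + 1) := (Nat.prime_three.coprime_iff_not_dvd).2 h1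
      exact Nat.Coprime.pow_left 4 (Nat.Coprime.coprime_dvd_right (Nat.gcd_dvd_right _ _) h2)
    apply dvd_of_coprime hcop hc2
    apply Dvd.dvd.mul_right
    rcases Nat.lt_or_ge n 4 with h4 | h4
    · have hn3' : n = 3 := by omega
      subst hn3'
      have h5 := hn3 rfl
      obtain ⟨f, hf, rfl⟩ := three_dvd_iff hq h3
      have hf2 : 2 ≤ f := by
        by_contra hf2
        have : f = 1 := by omega
        subst this
        exact h5.2 (by norm_num)
      change 3 ^ 4 ∣ (3 ^ f) ^ 3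
      rw [← pow_mul]
      exact pow_dvd_pow 3 (by omega)
    · apply pow4_dvd h3
      have h5 : 4 * 3 ≤ n * (n - 1) := Nat.mul_le_mul h4 (by omega)
      omega
  · have e2 : q ^ 2 - 1 = (q - 1) * (q + 1) := by
      have : q ^ 2 - 1 ^ 2 = (q + 1) * (q - 1) := Nat.sq_sub_sq q 1
      rw [one_pow] at this
      rw [this, mul_comm]
    have e4 : q ^ 4 - 1 = (q ^ 2 - 1) * (q ^ 2 + 1) := by
      have : (q ^ 2) ^ 2 - 1 ^ 2 = (q ^ 2 + 1) * (q ^ 2 - 1) := Nat.sq_sub_sq (q ^ 2) 1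
      rw [one_pow, ← pow_mul] at this
      rw [this, mul_comm]
    have hq2 : ¬ 3 ∣ q ^ 2 + 1 := by
      intro h5
      have : (q ^ 2 + 1) % 3 = 2 := by
        rcases mod_cases h3 with h | h <;> rw [Nat.add_mod, Nat.pow_mod, h]
      omega
    rcases mod_cases h3 with h1 | h2
    · -- `q ≡ 1`
      have hcop : Nat.Coprime 81 (Nat.gcd n (q + 1)) := by
        have h1 : ¬ 3 ∣ q + 1 := by omega
        have h2 : Nat.Coprime 3 (q + 1) := (Nat.prime_three.coprime_iff_not_dvd).2 h1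
        exact Nat.Coprime.pow_left 4 (Nat.Coprime.coprime_dvd_right (Nat.gcd_dvd_right _ _) h2)
      have h4 : 4 ≤ n := by
        by_contra h4
        have : n = 3 := by omega
        exact (hn3 this).1 h1
      apply dvd_of_coprime hcop hc2
      have hodd : ∀ k, ¬ 3 ∣ q ^ k + 1 := by
        intro k hk
        have h7 : q ≡ 1 [MOD 3] := h1
        have h8 := (h7.pow k).add_right 1
        rw [one_pow] at h8
        have h9 : (q ^ k + 1) % 3 = (1 + 1) % 3 := h8
        omega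
      rcases Nat.lt_or_ge n 6 with h6 | h6
      · have h27' : 27 ∣ q ^ (n * (n - 1) / 2) *
            ∏ i ∈ Finset.range (n - 1), (if (i + 1) % 2 = 0 then q ^ (i + 2) + 1 else q ^ (i + 2) - 1) := by
          rw [← hc2]; exact Dvd.dvd.mul_left h27 _
        have hn45 : n = 4 ∨ n = 5 := by omega
        rcases hn45 with rfl | rfl
        · rw [show (4 : ℕ) - 1 = 3 by rfl, Finset.prod_range_succ, Finset.prod_range_succ, Finset.prod_range_one]
            at h27' ⊢
          norm_num at h27' ⊢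
          rw [e4] at h27' ⊢
          have e : q ^ 6 * ((q ^ 2 - 1) * (q ^ 3 + 1) * ((q ^ 2 - 1) * (q ^ 2 + 1))) =
              (q ^ 2 - 1) ^ 2 * (q ^ 6 * (q ^ 3 + 1) * (q ^ 2 + 1)) := by ring
          rw [e] at h27' ⊢
          apply sq_dvd _ h27'
          intro h8
          rcases (Nat.prime_three.dvd_mul).1 h8 with h9 | h9
          · rcases (Nat.prime_three.dvd_mul).1 h9 with h9 | h9
            · exact h3 (Nat.prime_three.dvd_of_dvd_pow h9)
            · exact hodd 3 h9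
          · exact hq2 h9
        · rw [show (5 : ℕ) - 1 = 4 by rfl, Finset.prod_range_succ, Finset.prod_range_succ, Finset.prod_range_succ,
            Finset.prod_range_one] at h27' ⊢
          norm_num at h27' ⊢
          rw [e4] at h27' ⊢
          have e : q ^ 10 * ((q ^ 2 - 1) * (q ^ 3 + 1) * ((q ^ 2 - 1) * (q ^ 2 + 1)) * (q ^ 5 + 1)) =
              (q ^ 2 - 1) ^ 2 * (q ^ 10 * (q ^ 3 + 1) * (q ^ 2 + 1) * (q ^ 5 + 1)) := by ring
          rw [e] at h27' ⊢
          apply sq_dvd _ h27'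
          intro h8
          rcases (Nat.prime_three.dvd_mul).1 h8 with h9 | h9
          · rcases (Nat.prime_three.dvd_mul).1 h9 with h9 | h9
            · rcases (Nat.prime_three.dvd_mul).1 h9 with h9 | h9
              · exact h3 (Nat.prime_three.dvd_of_dvd_pow h9)
              · exact hodd 3 h9
            · exact hq2 h9
          · exact hodd 5 h9
      · apply Dvd.dvd.mul_left
        have h7 : ∏ i ∈ Finset.range 5, (if (i + 1) % 2 = 0 then q ^ (i + 2) + 1 else q ^ (i + 2) - 1) ∣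
            ∏ i ∈ Finset.range (n - 1), (if (i + 1) % 2 = 0 then q ^ (i + 2) + 1 else q ^ (i + 2) - 1) :=
          Finset.prod_dvd_prod_of_subset _ _ _ (Finset.range_mono (by omega))
        refine Dvd.dvd.trans ?_ h7
        rw [Finset.prod_range_succ, Finset.prod_range_succ, Finset.prod_range_succ, Finset.prod_range_succ,
          Finset.prod_range_one]
        norm_num
        refine (dvd81 h3).trans ⟨(q ^ 3 + 1) * (q ^ 5 + 1), by ring⟩
    · -- `q ≡ 2`
      have hplus : ∀ k, 3 ∣ q ^ (2 * k + 1) + 1 := by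
        intro k
        have h7 : q ^ 2 ≡ 1 [MOD 3] := by
          change q ^ 2 % 3 = 1 % 3
          rw [Nat.pow_mod, h2]
        have h8 := ((h7.pow k).mul_right q).add_right 1
        rw [one_pow, ← pow_mul, ← pow_succ, one_mul] at h8
        have h9 : (q ^ (2 * k + 1) + 1) % 3 = (q + 1) % 3 := h8
        omega
      have hplus9 : 9 ∣ q ^ 3 + 1 := by
        have : q % 9 = 2 ∨ q % 9 = 5 ∨ q % 9 = 8 := by omega
        have h5 : (q ^ 3 + 1) % 9 = 0 := by
          rcases this with h | h | h <;> rw [Nat.add_mod, Nat.pow_mod, h]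
        omega
      rcases Nat.lt_or_ge n 4 with h4 | h4
      · -- `n = 3` : even valuation
        have hn3' : n = 3 := by omega
        subst hn3'
        rw [show (3 : ℕ) - 1 = 2 by rfl, Finset.prod_range_succ, Finset.prod_range_one] at hc2
        norm_num at hc2
        have hg : Nat.gcd 3 (q + 1) = 3 := Nat.gcd_eq_left (by omega)
        rw [hg] at hc2
        obtain ⟨a, ha⟩ : ∃ a, q = 3 * a + 2 := ⟨q / 3, by omega⟩
        have e3 : q ^ 3 + 1 = (q + 1) * (3 * (3 * a ^ 2 + 3 * a + 1)) := by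
          subst ha
          ring
        have h6 : c = (q + 1) ^ 2 * (q ^ 3 * (q - 1) * (3 * a ^ 2 + 3 * a + 1)) := by
          have h7 : 3 * c = 3 * ((q + 1) ^ 2 * (q ^ 3 * (q - 1) * (3 * a ^ 2 + 3 * a + 1))) := by
            rw [hc2]
            rw [e2, e3]
            ring
          exact Nat.eq_of_mul_eq_mul_left (by norm_num) h7
        rw [h6] at h27 ⊢
        apply sq_dvd _ h27
        intro h8
        rcases (Nat.prime_three.dvd_mul).1 h8 with h9 | h9
        · rcases (Nat.prime_three.dvd_mul).1 h9 with h9 | h9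
          · exact h3 (Nat.prime_three.dvd_of_dvd_pow h9)
          · omega
        · omega
      · rcases Nat.lt_or_ge n 5 with h5 | h5
        · have hn4 : n = 4 := by omega
          subst hn4
          rw [show (4 : ℕ) - 1 = 3 by rfl, Finset.prod_range_succ, Finset.prod_range_succ, Finset.prod_range_one] at hc2
          norm_num at hc2
          have hcop : Nat.Coprime 81 (Nat.gcd 4 (q + 1)) :=
            Nat.Coprime.coprime_dvd_right (Nat.gcd_dvd_left _ _) (by norm_num)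
          apply dvd_of_coprime hcop hc2
          apply Dvd.dvd.mul_left
          exact Nat.mul_dvd_mul (Nat.mul_dvd_mul (three_even h3 1) hplus9) (three_even h3 2)
        · -- `gcd ∣ q² - 1`
          obtain ⟨m, rfl⟩ : ∃ m, n = m + 5 := ⟨n - 5, by omega⟩
          rw [show m + 5 - 1 = m + 4 by omega, Finset.prod_range_succ'] at hc2
          rw [zero_add, if_neg (by norm_num)] at hc2
          have hg : Nat.gcd (m + 5) (q + 1) ∣ q ^ 2 - 1 := by
            refine (Nat.gcd_dvd_right _ _).trans ?_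
            rw [e2]
            exact Dvd.intro_left _ rfl
          obtain ⟨w, hw⟩ := hg
          rw [hw] at hc2
          have hgp : 0 < Nat.gcd (m + 5) (q + 1) := Nat.gcd_pos_of_pos_left _ (by omega)
          have h6 : c = q ^ ((m + 5) * (m + 4) / 2) * w * ∏ i ∈ Finset.range (m + 3),
              (if (i + 1 + 1) % 2 = 0 then q ^ (i + 1 + 2) + 1 else q ^ (i + 1 + 2) - 1) := by
            apply Nat.eq_of_mul_eq_mul_left hgp
            rw [hc2]
            ring
          rw [h6]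
          apply Dvd.dvd.mul_left
          have h7 : ∏ i ∈ Finset.range 3, (if (i + 1 + 1) % 2 = 0 then q ^ (i + 1 + 2) + 1 else q ^ (i + 1 + 2) - 1) ∣
              ∏ i ∈ Finset.range (m + 3), (if (i + 1 + 1) % 2 = 0 then q ^ (i + 1 + 2) + 1 else q ^ (i + 1 + 2) - 1) :=
            Finset.prod_dvd_prod_of_subset _ _ _ (Finset.range_mono (by omega))
          rw [Finset.prod_range_succ, Finset.prod_range_succ, Finset.prod_range_one] at h7
          refine Dvd.dvd.trans ?_ h7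
          norm_num
          exact Nat.mul_dvd_mul (Nat.mul_dvd_mul hplus9 (three_even h3 2)) (hplus 2)

/-- `PSp_2m(q)` and the orthogonal groups -/
theorem big {q m c d e : ℕ} (w : ℕ) (hm : 3 ≤ m) (he : 4 ≤ e) (hd : Nat.Coprime 3 d) (hc : d * c = q ^ e * (w * prB q m)) :
    81 ∣ c := by
  apply dvd_of_coprime (Nat.Coprime.pow_left 4 hd) hc
  by_cases h3 : 3 ∣ q
  · exact Dvd.dvd.mul_right (pow4_dvd h3 he) _
  · exact Dvd.dvd.mul_left (Dvd.dvd.mul_left ((dvd81 h3).trans (prB_dvd hm)) _) _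

theorem psp {m q c : ℕ} (hm : 2 ≤ m) (hc : Nat.gcd 2 (q - 1) * c = q ^ (m ^ 2) * prB q m)
    (h27 : 27 ∣ c) : 81 ∣ c := by
  have hd : Nat.Coprime 3 (Nat.gcd 2 (q - 1)) := Nat.Coprime.coprime_dvd_right (Nat.gcd_dvd_left _ _) (by norm_num)
  rcases Nat.lt_or_ge m 3 with h | h
  · have hm2 : m = 2 := by omega
    subst hm2
    by_cases h3 : 3 ∣ q
    · exact dvd_of_coprime (Nat.Coprime.pow_left 4 hd) hc (Dvd.dvd.mul_right (pow4_dvd h3 (by norm_num)) _)
    · apply dvd_of_coprime (Nat.Coprime.pow_left 4 hd) hc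
      have h27' : 27 ∣ q ^ (2 ^ 2) * prB q 2 := by rw [← hc]; exact Dvd.dvd.mul_left h27 _
      have e4 : q ^ 4 - 1 = (q ^ 2 - 1) * (q ^ 2 + 1) := by
        have : (q ^ 2) ^ 2 - 1 ^ 2 = (q ^ 2 + 1) * (q ^ 2 - 1) := Nat.sq_sub_sq (q ^ 2) 1
        rw [one_pow, ← pow_mul] at this
        rw [this, mul_comm]
      have e : q ^ (2 ^ 2) * prB q 2 = (q ^ 2 - 1) ^ 2 * (q ^ 4 * (q ^ 2 + 1)) := by
        unfold prB
        rw [prod_list, Finset.prod_range_succ, Finset.prod_range_one]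
        norm_num
        rw [e4]
        ring
      rw [e] at h27' ⊢
      apply sq_dvd _ h27'
      intro h8
      rcases (Nat.prime_three.dvd_mul).1 h8 with h9 | h9
      · exact h3 (Nat.prime_three.dvd_of_dvd_pow h9)
      · have : (q ^ 2 + 1) % 3 = 2 := by
          rcases mod_cases h3 with h | h <;> rw [Nat.add_mod, Nat.pow_mod, h]
        omega
  · exact big 1 h (show 4 ≤ m ^ 2 by nlinarith) hd (by rw [one_mul]; exact hc)

/-! ### exceptional groups -/

theorem char3 {q e x c d : ℕ} (h3 : 3 ∣ q) (he : 4 ≤ e) (hd : Nat.Coprime 3 d) (hc : d * c = q ^ e * x) : 81 ∣ c :=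
  dvd_of_coprime (Nat.Coprime.pow_left 4 hd) hc (Dvd.dvd.mul_right (pow4_dvd h3 he) _)

theorem g2 {q c : ℕ} (hc : c = q ^ 6 * (q ^ 2 - 1) * (q ^ 6 - 1)) (h81 : ¬ 81 ∣ c) : ¬ 3 ∣ q ∧ ¬ 9 ∣ q ^ 2 - 1 := by
  have h3 : ¬ 3 ∣ q := fun h3 => h81 (char3 (e := 6) (x := (q ^ 2 - 1) * (q ^ 6 - 1)) (d := 1) h3 (by norm_num)
    (by norm_num) (by rw [hc]; ring))
  refine ⟨h3, fun h9 => h81 ?_⟩
  rw [hc, mul_assoc]
  exact Dvd.dvd.mul_left (Nat.mul_dvd_mul h9 (nine_six h3 1)) _

theorem f4 {q c : ℕ} (hc : c = q ^ 24 * (q ^ 2 - 1) * (q ^ 6 - 1) * (q ^ 8 - 1) * (q ^ 12 - 1)) : 81 ∣ c := by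
  by_cases h3 : 3 ∣ q
  · exact char3 (e := 24) (x := (q ^ 2 - 1) * (q ^ 6 - 1) * (q ^ 8 - 1) * (q ^ 12 - 1)) (d := 1) h3 (by norm_num)
      (by norm_num) (by rw [hc]; ring)
  · have h : 81 ∣ (q ^ 2 - 1) * (q ^ 6 - 1) * (q ^ 8 - 1) :=
      Nat.mul_dvd_mul (Nat.mul_dvd_mul (three_even h3 1) (nine_six h3 1)) (three_even h3 4)
    exact h.trans ⟨q ^ 24 * (q ^ 12 - 1), by rw [hc]; ring⟩

theorem dvd3 {g c N : ℕ} (hg : g ∣ 3) (h : g * c = N) (hN : 729 ∣ N) : 81 ∣ c := by
  have h1 : g = 1 ∨ g = 3 := (Nat.dvd_prime Nat.prime_three).1 hg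
  rcases h1 with rfl | rfl
  · rw [one_mul] at h
    rw [h]
    exact (show 81 ∣ 729 by norm_num).trans hN
  · rw [← h] at hN
    omega

theorem e6 {q c : ℕ} (hq : 1 < q) (hc : Nat.gcd 3 (q - 1) * c =
    q ^ 36 * (q ^ 2 - 1) * (q ^ 5 - 1) * (q ^ 6 - 1) * (q ^ 8 - 1) * (q ^ 9 - 1) * (q ^ 12 - 1)) : 81 ∣ c := by
  by_cases h3 : 3 ∣ q
  · have h1 : Nat.Coprime 3 (Nat.gcd 3 (q - 1)) := by
      have h2 : ¬ 3 ∣ q - 1 := by omega
      exact Nat.Coprime.coprime_dvd_right (Nat.gcd_dvd_right _ _) ((Nat.prime_three.coprime_iff_not_dvd).2 h2)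
    exact char3 (e := 36) (x := (q ^ 2 - 1) * (q ^ 5 - 1) * (q ^ 6 - 1) * (q ^ 8 - 1) * (q ^ 9 - 1) * (q ^ 12 - 1))
      h3 (by norm_num) h1 (by rw [hc]; ring)
  · have h : 729 ∣ (q ^ 2 - 1) * (q ^ 6 - 1) * (q ^ 8 - 1) * (q ^ 12 - 1) :=
      Nat.mul_dvd_mul (Nat.mul_dvd_mul (Nat.mul_dvd_mul (three_even h3 1) (nine_six h3 1)) (three_even h3 4))
        (nine_six h3 2)
    exact dvd3 (Nat.gcd_dvd_left _ _) hc (h.trans ⟨q ^ 36 * (q ^ 5 - 1) * (q ^ 9 - 1), by ring⟩)

theorem te6 {q c : ℕ} (hc : Nat.gcd 3 (q + 1) * c =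
    q ^ 36 * (q ^ 2 - 1) * (q ^ 5 + 1) * (q ^ 6 - 1) * (q ^ 8 - 1) * (q ^ 9 + 1) * (q ^ 12 - 1)) : 81 ∣ c := by
  by_cases h3 : 3 ∣ q
  · have h1 : Nat.Coprime 3 (Nat.gcd 3 (q + 1)) := by
      have h2 : ¬ 3 ∣ q + 1 := by omega
      exact Nat.Coprime.coprime_dvd_right (Nat.gcd_dvd_right _ _) ((Nat.prime_three.coprime_iff_not_dvd).2 h2)
    exact char3 (e := 36) (x := (q ^ 2 - 1) * (q ^ 5 + 1) * (q ^ 6 - 1) * (q ^ 8 - 1) * (q ^ 9 + 1) * (q ^ 12 - 1))
      h3 (by norm_num) h1 (by rw [hc]; ring)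
  · have h : 729 ∣ (q ^ 2 - 1) * (q ^ 6 - 1) * (q ^ 8 - 1) * (q ^ 12 - 1) :=
      Nat.mul_dvd_mul (Nat.mul_dvd_mul (Nat.mul_dvd_mul (three_even h3 1) (nine_six h3 1)) (three_even h3 4))
        (nine_six h3 2)
    exact dvd3 (Nat.gcd_dvd_left _ _) hc (h.trans ⟨q ^ 36 * (q ^ 5 + 1) * (q ^ 9 + 1), by ring⟩)

theorem e7 {q c : ℕ} (hc : Nat.gcd 2 (q - 1) * c = q ^ 63 * (q ^ 2 - 1) * (q ^ 6 - 1) * (q ^ 8 - 1) *
      (q ^ 10 - 1) * (q ^ 12 - 1) * (q ^ 14 - 1) * (q ^ 18 - 1)) : 81 ∣ c := by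
  have hd : Nat.Coprime 3 (Nat.gcd 2 (q - 1)) := Nat.Coprime.coprime_dvd_right (Nat.gcd_dvd_left _ _) (by norm_num)
  apply dvd_of_coprime (Nat.Coprime.pow_left 4 hd) hc
  by_cases h3 : 3 ∣ q
  · exact (pow4_dvd h3 (show 4 ≤ 63 by norm_num)).trans
      ⟨(q ^ 2 - 1) * (q ^ 6 - 1) * (q ^ 8 - 1) * (q ^ 10 - 1) * (q ^ 12 - 1) * (q ^ 14 - 1) * (q ^ 18 - 1), by ring⟩
  · have h : 81 ∣ (q ^ 2 - 1) * (q ^ 6 - 1) * (q ^ 8 - 1) :=
      Nat.mul_dvd_mul (Nat.mul_dvd_mul (three_even h3 1) (nine_six h3 1)) (three_even h3 4)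
    exact h.trans ⟨q ^ 63 * (q ^ 10 - 1) * (q ^ 12 - 1) * (q ^ 14 - 1) * (q ^ 18 - 1), by ring⟩

theorem e8 {q c : ℕ} (hc : c = q ^ 120 * (q ^ 2 - 1) * (q ^ 8 - 1) * (q ^ 12 - 1) * (q ^ 14 - 1) *
      (q ^ 18 - 1) * (q ^ 20 - 1) * (q ^ 24 - 1) * (q ^ 30 - 1)) : 81 ∣ c := by
  rw [hc]
  by_cases h3 : 3 ∣ q
  · exact (pow4_dvd h3 (show 4 ≤ 120 by norm_num)).trans
      ⟨(q ^ 2 - 1) * (q ^ 8 - 1) * (q ^ 12 - 1) * (q ^ 14 - 1) * (q ^ 18 - 1) * (q ^ 20 - 1) * (q ^ 24 - 1) *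
        (q ^ 30 - 1), by ring⟩
  · have h : 81 ∣ (q ^ 2 - 1) * (q ^ 12 - 1) * (q ^ 8 - 1) :=
      Nat.mul_dvd_mul (Nat.mul_dvd_mul (three_even h3 1) (nine_six h3 2)) (three_even h3 4)
    exact h.trans ⟨q ^ 120 * (q ^ 14 - 1) * (q ^ 18 - 1) * (q ^ 20 - 1) * (q ^ 24 - 1) * (q ^ 30 - 1), by ring⟩

theorem td4 {q c : ℕ} (hc : c = q ^ 12 * (q ^ 2 - 1) * (q ^ 6 - 1) * (q ^ 8 + q ^ 4 + 1)) : 81 ∣ c := by
  rw [hc]
  by_cases h3 : 3 ∣ q
  · exact (pow4_dvd h3 (show 4 ≤ 12 by norm_num)).trans ⟨(q ^ 2 - 1) * (q ^ 6 - 1) * (q ^ 8 + q ^ 4 + 1), by ring⟩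
  · have h4 : 3 ∣ q ^ 8 + q ^ 4 + 1 := by
      have : (q ^ 8 + q ^ 4 + 1) % 3 = 0 := by
        rcases mod_cases h3 with h | h <;> rw [Nat.add_mod, Nat.add_mod (q ^ 8), Nat.pow_mod q 8, Nat.pow_mod q 4, h]
      omega
    have h : 81 ∣ (q ^ 2 - 1) * (q ^ 6 - 1) * (q ^ 8 + q ^ 4 + 1) :=
      Nat.mul_dvd_mul (Nat.mul_dvd_mul (three_even h3 1) (nine_six h3 1)) h4
    exact h.trans ⟨q ^ 12, by ring⟩

theorem sz {q c : ℕ} (hq : q % 3 = 2) (hc : c = q ^ 2 * (q - 1) * (q ^ 2 + 1)) : ¬ 3 ∣ c := by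
  rw [hc]
  intro h
  rcases (Nat.prime_three.dvd_mul).1 h with h | h
  · rcases (Nat.prime_three.dvd_mul).1 h with h | h
    · have := Nat.prime_three.dvd_of_dvd_pow h
      omega
    · omega
  · have : (q ^ 2 + 1) % 3 = 2 := by rw [Nat.add_mod, Nat.pow_mod, hq]
    omega

theorem tf4 {q c : ℕ} (hq : q % 3 = 2) (hc : c = q ^ 12 * (q - 1) * (q ^ 3 + 1) * (q ^ 4 - 1) * (q ^ 6 + 1))
    (h81 : ¬ 81 ∣ c) : ¬ 9 ∣ q + 1 := by
  intro h9
  apply h81
  rw [hc]
  have h1 : 9 ∣ q ^ 3 + 1 := by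
    have h5 : q % 9 = 8 := by omega
    have : (q ^ 3 + 1) % 9 = 0 := by rw [Nat.add_mod, Nat.pow_mod, h5]
    omega
  have h2 : 9 ∣ q ^ 4 - 1 := by
    have h5 : q % 9 = 8 := by omega
    have h6 : q ^ 4 % 9 = 1 := by rw [Nat.pow_mod, h5]
    omega
  have h : 81 ∣ (q ^ 3 + 1) * (q ^ 4 - 1) := Nat.mul_dvd_mul h1 h2
  exact h.trans ⟨q ^ 12 * (q - 1) * (q ^ 6 + 1), by ring⟩

theorem alt {n c : ℕ} (hn : 5 ≤ n) (hc : n.factorial = 2 * c) (h27 : 27 ∣ c) : 81 ∣ c := by
  rcases Nat.lt_or_ge n 9 with h | h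
  · exfalso
    interval_cases n <;> simp [Nat.factorial] at hc <;> omega
  · have h1 : Nat.factorial 9 ∣ n.factorial := Nat.factorial_dvd_factorial h
    rw [hc] at h1
    have h2 : 81 ∣ 2 * c := (show 81 ∣ Nat.factorial 9 by decide).trans h1
    omega

/-! ### the list -/

/-- the possible groups -/
inductive Out (X : Type u) [Group X] : Prop
  | psl2 (F : Type) (_ : Field F) (_ : Fintype F) (e : Nonempty (X ≃* Matrix.ProjectiveSpecialLinearGroup (Fin 2) F))
  | psl3 (F : Type) (_ : Field F) (_ : Fintype F) (hF : Fintype.card F % 3 = 2)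
      (e : Nonempty (X ≃* Matrix.ProjectiveSpecialLinearGroup (Fin 3) F))
  | psl33 (F : Type) (_ : Field F) (_ : Fintype F) (hF : Fintype.card F = 3)
      (e : Nonempty (X ≃* Matrix.ProjectiveSpecialLinearGroup (Fin 3) F))
  | psu3 (F : Type) (_ : Field F) (_ : Fintype F) (q : ℕ) (hF : Fintype.card F = q ^ 2) (hq : q % 3 = 1)
      (e : Nonempty (X ≃* PSU 3 F q))
  | psu33 (h : Nat.card X = 6048)
  | g2 (F : Type) (_ : Field F) (_ : Fintype F) (hq : 3 ≤ Fintype.card F) (h3 : ¬ 3 ∣ Fintype.card F)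
      (h9 : ¬ 9 ∣ Fintype.card F ^ 2 - 1) (e : Nonempty (X ≃* ↥(Lie.chevG2.group F)))
  | tf4 (F : Type) (_ : Field F) (_ : Fintype F) (m : ℕ) (hm : 1 ≤ m) (hF : Fintype.card F = 2 ^ (2 * m + 1))
      (h9 : ¬ 9 ∣ Fintype.card F + 1) (e : Nonempty (X ≃* ↥(Lie.twistedF4 F (2 ^ m))))
  | tits (h : Lie.IsoTits X) (hc : Nat.card X = 17971200)
  | m12 (h : Spor.IsoM12 X)
  | m24 (h : Spor.IsoM24 X) (hc : Nat.card X = 244823040)
  | j2 (h : Spor.IsoJ2 X) (hc : Nat.card X = 604800)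
  | j4 (h : Spor.IsoJ4 X) (hc : Nat.card X = 86775571046077562880)
  | he (h : Spor.IsoHe X) (hc : Nat.card X = 4030387200)
  | ru (h : Spor.IsoRu X)

theorem spor_case (T : OrderTable.{u}) {X : Type u} [Group X] {g : Grp} (hg : g ∈ OrdDiv.spor.map (fun x => x.1))
    (hr : Real g X) (h27 : 27 ∣ Nat.card X) (h81 : ¬ 81 ∣ Nat.card X) : Out X := by
  have h0 : ∀ x ∈ OrdDiv.spor, x.2 % 27 = 0 → x.2 % 81 ≠ 0 →
      x = (.tits, 17971200) ∨ x = (.m12, 95040) ∨ x = (.m24, 244823040) ∨ x = (.j2, 604800) ∨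
      x = (.j4, 86775571046077562880) ∨ x = (.he, 4030387200) ∨ x = (.ru, 145926144000) := by decide
  obtain ⟨x, hx, rfl⟩ := List.mem_map.1 hg
  have hc := T.spor X x hx hr
  have h1 := h0 x hx (by omega) (by omega)
  rcases h1 with rfl | rfl | rfl | rfl | rfl | rfl | rfl
  · exact .tits hr hc
  · exact .m12 hr
  · exact .m24 hr hc
  · exact .j2 hr hc
  · exact .j4 hr hc
  · exact .he hr hc
  · exact .ru hr

/-- **the list** -/
theorem main (T : OrderTable.{u}) {X : Type u} [Group X] (h : IsKnownSimple' X)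
    (hna : ¬ ∀ a b : X, a * b = b * a) (h27 : 27 ∣ Nat.card X) (h81 : ¬ 81 ∣ Nat.card X) : Out X := by
  rcases h with h | h | h | h | h | h | h | h | h | h
  · exfalso
    have : Fact (Nat.card X).Prime := ⟨h⟩
    have : IsCyclic X := isCyclic_of_prime_card (p := Nat.card X) rfl
    exact hna fun a b => (IsCyclic.isMulCommutative (α := X)).is_comm.comm a b
  · obtain ⟨n, hn, ⟨e⟩⟩ := h
    exact absurd (alt hn (alt_card hn e) h27) h81
  · obtain ⟨F, _, _, n, hn, hn2, ⟨e⟩⟩ := h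
    have hc : Nat.gcd n (Fintype.card F - 1) * (Fintype.card F - 1) * Nat.card X = glN n (Fintype.card F) := by
      rw [Nat.card_congr e.toEquiv]
      have h := S0243.result (F := F) rfl n hn
      rw [Fin.prod_univ_eq_prod_range (fun i => Fintype.card F ^ n - Fintype.card F ^ i) n, ← prod_list] at h
      rw [mul_assoc]
      exact h
    rcases psl hn Fintype.isPrimePow_card_of_field hc h27 h81 with h2 | ⟨h2, h3⟩
    · subst h2
      exact .psl2 F inferInstance inferInstance ⟨e⟩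
    · subst h2
      rcases h3 with h3 | h3
      · exact .psl3 F _ _ h3 ⟨e⟩
      · exact .psl33 F _ _ h3 ⟨e⟩
  · exfalso
    obtain ⟨F, _, _, n, hn, hn2, ⟨e⟩⟩ := h
    apply h81
    apply psp (m := n) (q := Fintype.card F) hn ?_ h27
    have h1 := S0245.result (F := F) rfl n
    have h2 := S0246.result (F := F) rfl n (by omega)
    have h3 := Subgroup.card_eq_card_quotient_mul_card_subgroup
      (Subgroup.center (Matrix.symplecticGroup (Fin n) F))
    rw [← prod_list (fun i => Fintype.card F ^ (2 * (i + 1)) - 1)] at h1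
    rw [h1, h2] at h3
    rw [Nat.card_congr e.toEquiv, mul_comm]
    exact h3.symm
  · obtain ⟨F, _, _, n, q, hF, hn, hn2, ⟨e⟩⟩ := h
    have hq2 : IsPrimePow (q ^ 2) := hF ▸ Fintype.isPrimePow_card_of_field
    have hqp : IsPrimePow q := (isPrimePow_pow_iff (by norm_num)).1 hq2
    have hc : Nat.gcd n (q + 1) * (q + 1) * Nat.card X = q ^ (n * (n - 1) / 2) * prU q n := by
      rw [Nat.card_congr e.toEquiv]
      have h := S0280.result hF n (by omega)
      rw [← prod_list] at h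
      have h2 : prU q n = ((List.range n).map fun i => if Even i then q ^ (i + 1) + 1 else q ^ (i + 1) - 1).prod := by
        unfold prU
        congr 1
        apply List.map_congr_left
        intro i _
        by_cases h : Even i
        · rw [if_pos h, if_pos]
          rw [Nat.beq_eq]
          exact Nat.even_iff.1 h
        · rw [if_neg h, if_neg]
          rw [Nat.beq_eq, ← Nat.even_iff]
          exact h
      rw [h2, mul_assoc]
      exact h
    obtain ⟨rfl, h3⟩ := psu hn hqp hc h27 h81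
    rcases h3 with h3 | rfl
    · exact .psu3 F _ _ q hF h3 ⟨e⟩
    · refine .psu33 ?_
      have h5 : prU 3 3 = 8 * 28 * 4 := by decide
      rw [h5] at hc
      norm_num at hc
      omega
  · exfalso
    obtain ⟨F, _, _, m, hm, ho, ⟨e⟩⟩ := h
    apply h81
    have h := S0292.result (F := F) rfl ho m hm
    rw [← prod_list (fun i => Fintype.card F ^ (2 * (i + 1)) - 1)] at h
    rw [Nat.card_congr e.toEquiv]
    refine big (q := Fintype.card F) (m := m) (d := 2) (e := m ^ 2) 1 hm (by nlinarith) (by norm_num) ?_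
    rw [one_mul]
    exact h
  · exfalso
    obtain ⟨F, _, _, m, hm, ⟨e⟩⟩ := h
    apply h81
    have h := S0293.result (F := F) rfl m hm
    rw [← prod_list (fun i => Fintype.card F ^ (2 * (i + 1)) - 1)] at h
    rw [Nat.card_congr e.toEquiv]
    refine big (q := Fintype.card F) (m := m - 1) (d := Nat.gcd 4 (Fintype.card F ^ m - 1)) (e := m * (m - 1))
      (Fintype.card F ^ m - 1) (by omega) ?_ ?_ ?_
    · have : 4 * 3 ≤ m * (m - 1) := Nat.mul_le_mul hm (by omega)
      omega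
    · exact Nat.Coprime.coprime_dvd_right (Nat.gcd_dvd_left _ _) (by norm_num)
    · rw [← mul_assoc (Fintype.card F ^ (m * (m - 1)))]
      exact h
  · exfalso
    obtain ⟨F, _, _, m, a, b, hm, hab, ⟨e⟩⟩ := h
    apply h81
    have h := S0294.result (F := F) rfl m hm a b hab
    rw [← prod_list (fun i => Fintype.card F ^ (2 * (i + 1)) - 1)] at h
    rw [Nat.card_congr e.toEquiv]
    refine big (q := Fintype.card F) (m := m - 1) (d := Nat.gcd 4 (Fintype.card F ^ m + 1)) (e := m * (m - 1))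
      (Fintype.card F ^ m + 1) (by omega) ?_ ?_ ?_
    · have : 4 * 3 ≤ m * (m - 1) := Nat.mul_le_mul hm (by omega)
      omega
    · exact Nat.Coprime.coprime_dvd_right (Nat.gcd_dvd_left _ _) (by norm_num)
    · rw [← mul_assoc (Fintype.card F ^ (m * (m - 1)))]
      exact h
  · rcases h with h | h | h | h | h | h | h | h | h | h | h
    · obtain ⟨F, _, _, hq, ⟨e⟩⟩ := h
      have hc := T.g2 F
      rw [← Nat.card_congr e.toEquiv] at hc
      obtain ⟨h1, h2⟩ := g2 hc h81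
      exact .g2 F _ _ hq h1 h2 ⟨e⟩
    · exfalso
      obtain ⟨F, _, _, ⟨e⟩⟩ := h
      have hc := T.f4 F _ rfl
      rw [← Nat.card_congr e.toEquiv] at hc
      exact h81 (f4 hc)
    · exfalso
      obtain ⟨F, _, _, ⟨e⟩⟩ := h
      have hc := T.e6 F _ rfl
      rw [← Nat.card_congr e.toEquiv] at hc
      exact h81 (e6 Fintype.one_lt_card hc)
    · exfalso
      obtain ⟨F, _, _, ⟨e⟩⟩ := h
      have hc := T.e7 F _ rfl
      rw [← Nat.card_congr e.toEquiv] at hc
      exact h81 (e7 hc)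
    · exfalso
      obtain ⟨F, _, _, ⟨e⟩⟩ := h
      have hc := T.e8 F _ rfl
      rw [← Nat.card_congr e.toEquiv] at hc
      exact h81 (e8 hc)
    · exfalso
      obtain ⟨F, _, _, q, hq, hF, ⟨e⟩⟩ := h
      have hc := T.te6 F q hq hF
      rw [← Nat.card_congr e.toEquiv] at hc
      exact h81 (te6 hc)
    · exfalso
      obtain ⟨F, _, _, q, hq, hF, ⟨e⟩⟩ := h
      have hc := T.td4 F q hq hF
      rw [← Nat.card_congr e.toEquiv] at hc
      exact h81 (td4 hc)
    · exfalso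
      obtain ⟨F, _, _, m, hm, hF, ⟨e⟩⟩ := h
      have hc := T.sz F m hm hF
      rw [← Nat.card_congr e.toEquiv] at hc
      have h2 : 2 ^ (2 * m + 1) % 3 = 2 := by
        obtain ⟨k, rfl⟩ : ∃ k, m = k + 1 := ⟨m - 1, by omega⟩
        exact (odd_pow_mod k).2.2
      exact sz h2 hc ((show 3 ∣ 27 by norm_num).trans h27)
    · exfalso
      obtain ⟨F, _, _, m, hm, hF, ⟨e⟩⟩ := h
      have hc := T.ree F m hm hF
      rw [← Nat.card_congr e.toEquiv] at hc
      apply h81
      rw [hc]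
      have h5 : 3 ^ 4 ∣ (3 ^ (2 * m + 1)) ^ 3 := by
        rw [← pow_mul]
        exact pow_dvd_pow 3 (by omega)
      exact (Dvd.dvd.mul_right h5 _).mul_right _
    · obtain ⟨F, _, _, m, hm, hF, ⟨e⟩⟩ := h
      have hc := T.tf4 F m hm hF
      rw [← Nat.card_congr e.toEquiv] at hc
      have h2 : 2 ^ (2 * m + 1) % 3 = 2 := by
        obtain ⟨k, rfl⟩ : ∃ k, m = k + 1 := ⟨m - 1, by omega⟩
        exact (odd_pow_mod k).2.2
      exact .tf4 F _ _ m hm hF (by rw [hF]; exact tf4 h2 hc h81) ⟨e⟩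
    · exact spor_case T (g := .tits) (by decide) h h27 h81
  · rcases h with h | h | h | h | h | h | h | h | h | h | h | h | h | h | h | h | h | h | h | h | h | h | h | h | h | h
    · exact spor_case T (g := .m11) (by decide) h h27 h81
    · exact spor_case T (g := .m12) (by decide) h h27 h81
    · exact spor_case T (g := .m22) (by decide) h h27 h81
    · exact spor_case T (g := .m23) (by decide) h h27 h81
    · exact spor_case T (g := .m24) (by decide) h h27 h81
    · exact spor_case T (g := .j1) (by decide) h h27 h81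
    · exact spor_case T (g := .j2) (by decide) h h27 h81
    · exact spor_case T (g := .j3) (by decide) h h27 h81
    · exact spor_case T (g := .j4) (by decide) h h27 h81
    · exact spor_case T (g := .co1) (by decide) h h27 h81
    · exact spor_case T (g := .co2) (by decide) h h27 h81
    · exact spor_case T (g := .co3) (by decide) h h27 h81
    · exact spor_case T (g := .mcl) (by decide) h h27 h81
    · exact spor_case T (g := .hs) (by decide) h h27 h81
    · exact spor_case T (g := .suz) (by decide) h h27 h81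
    · exact spor_case T (g := .he) (by decide) h h27 h81
    · exact spor_case T (g := .ru) (by decide) h h27 h81
    · exact spor_case T (g := .on) (by decide) h h27 h81
    · exact spor_case T (g := .ly) (by decide) h h27 h81
    · exact spor_case T (g := .fi22) (by decide) h h27 h81
    · exact spor_case T (g := .fi23) (by decide) h h27 h81
    · exact spor_case T (g := .fi24) (by decide) h h27 h81
    · exact spor_case T (g := .hn) (by decide) h h27 h81
    · exact spor_case T (g := .th) (by decide) h h27 h81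
    · exact spor_case T (g := .b) (by decide) h h27 h81
    · exact spor_case T (g := .m) (by decide) h h27 h81

end Cfsg.Agent.H441.ThreePart
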